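import Mathlib
import Groth.Prelude.Def_Smoothing

/-!
Elementary standard elements give standard smooth localisations.
-/

namespace Groth.Agent.StdSmooth

universe u

open MvPolynomial

section Equiv

variable {R Q A : Type u} [CommRing R] [CommRing Q] [Algebra R Q] [CommRing A] [Algebra R A]
  (h : Q →ₐ[R] A) (K : Ideal Q) (a₁ : Q)

theorem exists_idempotent (hK : K ≤ RingHom.ker h) (hfg : (RingHom.ker h).FG)
    (hkill : ∀ p ∈ RingHom.ker h, a₁ * p ∈ K ⊔ (RingHom.ker h) ^ 2) :
    ∃ e : Localization.Away (Ideal.Quotient.mkₐ R K a₁), IsIdempotentElem e ∧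
      (RingHom.ker h).map ((IsScalarTower.toAlgHom R (Q ⧸ K) _).comp (Ideal.Quotient.mkₐ R K) :
        Q →ₐ[R] Localization.Away (Ideal.Quotient.mkₐ R K a₁)) = Ideal.span {e} := by
  set ρ : Q →ₐ[R] Localization.Away (Ideal.Quotient.mkₐ R K a₁) :=
    (IsScalarTower.toAlgHom R (Q ⧸ K) _).comp (Ideal.Quotient.mkₐ R K)
  refine (Ideal.isIdempotentElem_iff_of_fg _ (Ideal.FG.map hfg _)).1
    (le_antisymm Ideal.mul_le_right (Ideal.map_le_iff_le_comap.2 fun p hp => ?_))
  have hu : IsUnit (ρ a₁) :=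
    IsLocalization.Away.algebraMap_isUnit (Ideal.Quotient.mkₐ R K a₁)
  have h1 := Ideal.mem_map_of_mem ρ (hkill p hp)
  have h0 : K.map ρ = ⊥ := by
    rw [Ideal.map_eq_bot_iff_le_ker]
    intro q hq
    show algebraMap (Q ⧸ K) _ (Ideal.Quotient.mkₐ R K q) = 0
    rw [show Ideal.Quotient.mkₐ R K q = 0 from Ideal.Quotient.eq_zero_iff_mem.2 hq, map_zero]
  rw [Ideal.map_sup, map_mul, Ideal.map_pow, sq, h0, bot_sup_eq] at h1
  exact (Ideal.unit_mul_mem_iff_mem _ hu).1 h1

theorem exists_equiv (hsurj : Function.Surjective h) (hK : K ≤ RingHom.ker h)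
    (e : Localization.Away (Ideal.Quotient.mkₐ R K a₁)) (hee : IsIdempotentElem e)
    (hJe : (RingHom.ker h).map ((IsScalarTower.toAlgHom R (Q ⧸ K) _).comp (Ideal.Quotient.mkₐ R K) :
        Q →ₐ[R] Localization.Away (Ideal.Quotient.mkₐ R K a₁)) = Ideal.span {e}) :
    ∃ eqv : Localization.Away (1 - e) ≃ₐ[R] Localization.Away (h a₁),
      ∀ q : Q, eqv (algebraMap _ _ (algebraMap (Q ⧸ K) (Localization.Away (Ideal.Quotient.mkₐ R K a₁))
        (Ideal.Quotient.mkₐ R K q))) = algebraMap A _ (h q) := by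
  let π := Ideal.Quotient.mkₐ R K
  let L := Localization.Away (π a₁)
  let ρ : Q →ₐ[R] L := (IsScalarTower.toAlgHom R (Q ⧸ K) L).comp π
  let L' := Localization.Away (1 - e)
  have he0 : algebraMap L L' e = 0 := by
    have hu : IsUnit (algebraMap L L' (1 - e)) := IsLocalization.Away.algebraMap_isUnit (1 - e)
    refine (hu.mul_right_eq_zero).1 ?_
    rw [← map_mul, sub_mul, one_mul, hee.eq, sub_self, map_zero]
  let σ : Q →ₐ[R] L' := (IsScalarTower.toAlgHom R L L').comp ρ
  have hσJ : ∀ p ∈ RingHom.ker h, σ p = 0 := fun p hp => by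
    obtain ⟨c, hc⟩ := Ideal.mem_span_singleton'.1 (hJe.le (Ideal.mem_map_of_mem ρ hp))
    show algebraMap L L' (ρ p) = 0
    rw [← hc, map_mul, he0, mul_zero]
  let φ : A →ₐ[R] L' := AlgHom.liftOfSurjective h hsurj σ hσJ
  have hφ : ∀ p, φ (h p) = σ p := fun p => AlgHom.liftOfSurjective_apply _ _ _ _ _
  have hφu : ∀ y : Submonoid.powers (h a₁), IsUnit (φ y) := by
    rintro ⟨_, k, rfl⟩
    rw [map_pow, hφ]
    exact ((IsLocalization.Away.algebraMap_isUnit (π a₁)).map (algebraMap L L')).pow k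
  let F : Localization.Away (h a₁) →ₐ[R] L' := IsLocalization.liftAlgHom hφu
  have hF : ∀ x : A, F (algebraMap A _ x) = φ x := fun x => IsLocalization.lift_eq _ x
  let aA : Q →ₐ[R] Localization.Away (h a₁) :=
    (IsScalarTower.toAlgHom R A (Localization.Away (h a₁))).comp h
  have haAJ : ∀ p ∈ RingHom.ker h, aA p = 0 := fun p hp => by
    show algebraMap A _ (h p) = 0
    rw [RingHom.mem_ker.1 hp, map_zero]
  let g₁ : (Q ⧸ K) →ₐ[R] Localization.Away (h a₁) := Ideal.Quotient.liftₐ _ aA fun p hp => haAJ p (hK hp)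
  have hg₁ : ∀ y : Submonoid.powers (π a₁), IsUnit (g₁ y) := by
    rintro ⟨_, k, rfl⟩
    rw [map_pow]
    exact IsUnit.pow k (IsLocalization.Away.algebraMap_isUnit (h a₁))
  let g₂ : L →ₐ[R] Localization.Away (h a₁) := IsLocalization.liftAlgHom hg₁
  have hg₂ : ∀ p, g₂ (ρ p) = aA p := fun p => IsLocalization.lift_eq _ (π p)
  have hg₂e : g₂ e = 0 := by
    have hle : (RingHom.ker h).map ρ ≤ RingHom.ker g₂ := Ideal.map_le_iff_le_comap.2 fun p hp => by
      rw [Ideal.mem_comap, RingHom.mem_ker, hg₂]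
      exact haAJ p hp
    exact hle (hJe.ge (Ideal.mem_span_singleton_self e))
  have hg₃ : ∀ y : Submonoid.powers (1 - e), IsUnit (g₂ y) := by
    rintro ⟨_, k, rfl⟩
    rw [map_pow, map_sub, map_one, hg₂e, sub_zero, one_pow]
    exact isUnit_one
  let G : L' →ₐ[R] Localization.Away (h a₁) := IsLocalization.liftAlgHom hg₃
  have hG : ∀ p, G (σ p) = aA p := fun p => (IsLocalization.lift_eq _ (ρ p)).trans (hg₂ p)
  have h1 : G.comp F = AlgHom.id R _ := by
    refine IsLocalization.algHom_ext (Submonoid.powers (h a₁)) (AlgHom.ext fun x => ?_)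
    obtain ⟨p, rfl⟩ := hsurj x
    show G (F (algebraMap A _ (h p))) = algebraMap A _ (h p)
    rw [hF, hφ, hG]
    rfl
  have h2 : F.comp G = AlgHom.id R _ := by
    refine IsLocalization.algHom_ext (Submonoid.powers (1 - e)) ?_
    refine IsLocalization.algHom_ext (Submonoid.powers (π a₁)) ?_
    refine Ideal.Quotient.algHom_ext R (AlgHom.ext fun p => ?_)
    show F (G (σ p)) = σ p
    rw [hG, show aA p = algebraMap A _ (h p) from rfl, hF, hφ]
  exact ⟨AlgEquiv.ofAlgHom G F h1 h2, fun p => hG p⟩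

end Equiv

theorem isStandardSmooth_of_isElementaryStandard {R A : Type u} [CommRing R] [CommRing A] [Algebra R A]
    (a : A) (ha : Smoothing.IsElementaryStandard R A a) :
    Algebra.IsStandardSmooth R (Localization.Away a) := by
  classical
  obtain ⟨P, ⟨a', ha'⟩, hkill⟩ := ha
  obtain ⟨a₁, ha₁⟩ := P.surj a
  let v : Fin P.c → MvPolynomial (Fin P.n) R := fun j => P.rel (Fin.castLE P.hcm j)
  have hker : RingHom.ker P.hom = Ideal.span (Set.range P.rel) := P.ker_eq
  have hK : Ideal.span (Set.range v) ≤ RingHom.ker P.hom := by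
    rw [hker]
    exact Ideal.span_mono (by rintro _ ⟨j, rfl⟩; exact ⟨_, rfl⟩)
  have hk : ∀ p ∈ RingHom.ker P.hom, a₁ * p ∈ Ideal.span (Set.range v) ⊔ (RingHom.ker P.hom) ^ 2 := by
    intro p hp
    rw [hker] at hp ⊢
    induction hp using Submodule.span_induction with
    | mem q hq =>
      obtain ⟨j, rfl⟩ := hq
      by_cases hj : (j : ℕ) < P.c
      · exact Ideal.mul_mem_left _ _ (Submodule.mem_sup_left (Ideal.subset_span ⟨⟨j, hj⟩, rfl⟩))
      · have hle : Ideal.span (P.rel '' {j' : Fin P.m | (j' : ℕ) < P.c}) ≤ Ideal.span (Set.range v) := by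
          refine Ideal.span_mono ?_
          rintro _ ⟨i, hi, rfl⟩
          exact ⟨⟨i, hi⟩, rfl⟩
        exact SetLike.le_def.1 (sup_le_sup hle le_rfl) (hkill a₁ ha₁ j (not_lt.1 hj))
    | zero => simp
    | add x y _ _ hx hy => rw [mul_add]; exact add_mem hx hy
    | smul c x _ hx => rw [smul_eq_mul, mul_left_comm]; exact Ideal.mul_mem_left _ c hx
  obtain ⟨e, hee, hJe⟩ := exists_idempotent P.hom _ a₁ hK (hker ▸ ⟨Finset.univ.image P.rel, by simp⟩) hk
  obtain ⟨eqv, heqv⟩ := exists_equiv P.hom _ a₁ P.surj hK e hee hJe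
  let P1 : Algebra.PreSubmersivePresentation R (MvPolynomial (Fin P.n) R ⧸ Ideal.span (Set.range v))
      (Fin P.n) (Fin P.c) :=
    { toPresentation := Algebra.Presentation.naive (v := v)
      map := Fin.castLE P.hcn
      map_inj := Fin.castLE_injective _ }
  let P2 := (Algebra.PreSubmersivePresentation.localizationAway
    (Localization.Away (Ideal.Quotient.mkₐ R (Ideal.span (Set.range v)) a₁))
    (Ideal.Quotient.mkₐ R (Ideal.span (Set.range v)) a₁)).comp P1
  let P3 := (Algebra.PreSubmersivePresentation.localizationAway (Localization.Away (1 - e)) (1 - e)).comp P2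
  let P4 := P3.ofAlgEquiv eqv
  have hP1 : P1.jacobian = Ideal.Quotient.mkₐ R _
      (Smoothing.jacobianMinor P.rel (Fin.castLE P.hcm) (Fin.castLE P.hcn)) := by
    have hM : P1.jacobiMatrix =
        (Matrix.of fun j k : Fin P.c => pderiv (Fin.castLE P.hcn k) (P.rel (Fin.castLE P.hcm j))).transpose := by
      ext i j : 1
      rw [Algebra.PreSubmersivePresentation.jacobiMatrix_apply]
      rfl
    rw [Algebra.PreSubmersivePresentation.jacobian_eq_jacobiMatrix_det, hM, Matrix.det_transpose]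
    rfl
  have hjac : IsUnit P4.jacobian := by
    have hau : IsUnit (algebraMap A (Localization.Away (P.hom a₁)) (P.hom a₁)) :=
      IsLocalization.Away.algebraMap_isUnit _
    have hminor : IsUnit (algebraMap A (Localization.Away (P.hom a₁))
        (P.hom (Smoothing.jacobianMinor P.rel (Fin.castLE P.hcm) (Fin.castLE P.hcn)))) := by
      have e2 : ∀ y, y = P.hom a₁ → IsUnit (algebraMap A (Localization.Away (P.hom a₁)) y) :=
        fun y hy => hy ▸ hau
      have := e2 _ (ha'.symm.trans ha₁.symm)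
      rw [map_mul] at this
      exact isUnit_of_mul_isUnit_right this
    simp only [P4, P3, P2, Algebra.PreSubmersivePresentation.jacobian_ofAlgEquiv,
      Algebra.PreSubmersivePresentation.comp_jacobian_eq_jacobian_smul_jacobian,
      Algebra.PreSubmersivePresentation.localizationAway_jacobian, Algebra.smul_def, map_mul, hP1, heqv]
    exact (hminor.mul hau).mul ((IsLocalization.Away.algebraMap_isUnit (1 - e)).map eqv)
  have := Algebra.SubmersivePresentation.isStandardSmooth ⟨P4, hjac⟩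
  rwa [ha₁] at this

end Groth.Agent.StdSmooth
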