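import Mathlib
import Groth.Prelude.Def_Smoothing
import Groth.Agent.StdSmooth.Elementary

/-!
Strictly standard elements: comparison with elementary ones, smoothness, and stably free differentials.
-/

set_option autoImplicit false
set_option linter.style.haveILetI false
set_option linter.unusedSimpArgs false

universe u

namespace Groth.Agent.StdSmooth

open MvPolynomial

theorem isElementaryStandard_of_choice {R A : Type u} [CommRing R] [CommRing A] [Algebra R A] {n m c : ℕ}
    (f : Fin m → MvPolynomial (Fin n) R) (φ : MvPolynomial (Fin n) R →ₐ[R] A) (hφ : Function.Surjective φ)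
    (hker : RingHom.ker φ.toRingHom = Ideal.span (Set.range f)) (rows : Fin c ↪ Fin m) (cols : Fin c ↪ Fin n)
    (a a' : A) (ha : a = a' * φ (Smoothing.jacobianMinor f rows cols))
    (hcond : ∀ a₁, φ a₁ = a → ∀ l : Fin m,
      a₁ * f l ∈ Ideal.span (Set.range (f ∘ rows)) ⊔ Ideal.span (Set.range f) ^ 2) :
    Smoothing.IsElementaryStandard R A a := by
  have hcm : c ≤ m := by simpa using Fintype.card_le_of_embedding rows
  have hcn : c ≤ n := by simpa using Fintype.card_le_of_embedding cols
  obtain ⟨σ, hσ⟩ := Equiv.Perm.exists_extending_pair (Fin.castLE hcm) rows (Fin.castLE_injective _) rows.injective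
  obtain ⟨τ, hτ⟩ := Equiv.Perm.exists_extending_pair cols (Fin.castLE hcn) cols.injective (Fin.castLE_injective _)
  let e : MvPolynomial (Fin n) R ≃ₐ[R] MvPolynomial (Fin n) R := renameEquiv R τ
  let rel : Fin m → MvPolynomial (Fin n) R := fun l => e (f (σ l))
  let hom : MvPolynomial (Fin n) R →ₐ[R] A := φ.comp e.symm.toAlgHom
  have hhom : ∀ p, hom (e p) = φ p := fun p => congrArg φ (e.symm_apply_apply p)
  have hmap : ∀ g : Fin m → MvPolynomial (Fin n) R, (Ideal.span (Set.range g)).map (e : _ →+* _) =
      Ideal.span (Set.range fun l => e (g l)) := fun g => by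
    rw [Ideal.map_span, ← Set.range_comp]; rfl
  have hrange : Set.range rel = Set.range fun l => e (f l) := σ.surjective.range_comp fun l => e (f l)
  have hk : RingHom.ker hom.toRingHom = Ideal.span (Set.range rel) := by
    rw [hrange, ← hmap, ← hker]
    ext p
    rw [Ideal.mem_map_iff_of_surjective (e : MvPolynomial (Fin n) R →+* MvPolynomial (Fin n) R) e.surjective]
    constructor
    · intro hp; exact ⟨e.symm p, hp, e.apply_symm_apply p⟩
    · rintro ⟨y, hy, rfl⟩
      rw [RingHom.mem_ker] at hy ⊢
      exact (hhom y).trans hy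
  let P : Smoothing.MarkedPresentation R A :=
    { n := n, m := m, c := c, hcn := hcn, hcm := hcm, rel := rel, hom := hom
      surj := hφ.comp e.symm.surjective, ker_eq := hk }
  have hmin : Smoothing.jacobianMinor rel (Fin.castLE hcm) (Fin.castLE hcn) =
      e (Smoothing.jacobianMinor f rows cols) := by
    simp only [Smoothing.jacobianMinor]
    change _ = e.toRingEquiv.toRingHom (Matrix.det _)
    rw [RingHom.map_det]
    refine congrArg Matrix.det (Matrix.ext fun j k => ?_)
    change pderiv (Fin.castLE hcn k) (rename τ (f (σ (Fin.castLE hcm j)))) =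
      rename τ (pderiv (cols k) (f (rows j)))
    rw [hσ, ← hτ, pderiv_rename τ.injective]
  refine ⟨P, ⟨a', ?_⟩, fun b hb j _ => ?_⟩
  · change a = a' * hom (Smoothing.jacobianMinor rel (Fin.castLE hcm) (Fin.castLE hcn))
    rw [hmin, hhom, ha]
  · change b * rel j ∈ Ideal.span (rel '' {j' : Fin m | (j' : ℕ) < c}) ⊔ Ideal.span (Set.range rel) ^ 2
    have h := Ideal.mem_map_of_mem (e : MvPolynomial (Fin n) R →+* MvPolynomial (Fin n) R)
      (hcond (e.symm b) hb (σ j))
    rw [Ideal.map_sup, Ideal.map_pow, hmap, Ideal.map_span, ← hrange, ← Set.range_comp] at h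
    change e (e.symm b * f (σ j)) ∈ _ at h
    rw [map_mul, e.apply_symm_apply] at h
    refine SetLike.le_def.1 (sup_le_sup (Ideal.span_mono ?_) le_rfl) h
    rintro _ ⟨i, rfl⟩
    refine ⟨Fin.castLE hcm i, i.2, ?_⟩
    change e (f (σ (Fin.castLE hcm i))) = e (f (rows i))
    rw [hσ]

variable {R A : Type u} [CommRing R] [CommRing A] [Algebra R A]

theorem exists_elementary_notMem (a : A) (ha : Smoothing.IsStrictlyStandard R A a) (q : Ideal A) [q.IsPrime]
    (haq : a ∉ q) : ∃ b ∉ q, Smoothing.IsElementaryStandard R A b := by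
  classical
  obtain ⟨P, hspan, hkill⟩ := ha
  obtain ⟨cols, hcols⟩ : ∃ cols : Fin P.c → Fin P.n,
      P.hom (Smoothing.jacobianMinor P.rel (Fin.castLE P.hcm) cols) ∉ q := by
    by_contra! h
    exact haq (Ideal.span_le.mpr (by rintro _ ⟨cols, rfl⟩; exact h cols) hspan)
  have hinj : Function.Injective cols := fun i j hij => by
    by_contra hne
    refine hcols ?_
    rw [Smoothing.jacobianMinor, Matrix.det_zero_of_column_eq hne fun k => by simp [hij], map_zero]
    exact zero_mem _
  refine ⟨a * P.hom (Smoothing.jacobianMinor P.rel (Fin.castLE P.hcm) cols),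
    fun h => (Ideal.IsPrime.mem_or_mem ‹_› h).elim haq hcols,
    isElementaryStandard_of_choice P.rel P.hom P.surj P.ker_eq ⟨Fin.castLE P.hcm, Fin.castLE_injective _⟩
      ⟨cols, hinj⟩ _ a rfl fun b hb l => ?_⟩
  by_cases hl : (l : ℕ) < P.c
  · exact Ideal.mul_mem_left _ _ (Submodule.mem_sup_left (Ideal.subset_span ⟨⟨l, hl⟩, rfl⟩))
  obtain ⟨a₁, ha₁⟩ := P.surj a
  have h0 : b - a₁ * Smoothing.jacobianMinor P.rel (Fin.castLE P.hcm) cols ∈ Ideal.span (Set.range P.rel) := by
    rw [← P.ker_eq, RingHom.mem_ker]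
    change P.hom (b - _) = 0
    rw [map_sub, map_mul, ha₁, hb, sub_self]
  rw [show b * P.rel l = (b - a₁ * Smoothing.jacobianMinor P.rel (Fin.castLE P.hcm) cols) * P.rel l +
    Smoothing.jacobianMinor P.rel (Fin.castLE P.hcm) cols * (a₁ * P.rel l) by ring]
  refine add_mem (Submodule.mem_sup_right ?_) (Ideal.mul_mem_left _ _ ?_)
  · rw [sq]; exact Ideal.mul_mem_mul h0 (Ideal.subset_span ⟨l, rfl⟩)
  · refine SetLike.le_def.1 (sup_le_sup (Ideal.span_mono ?_) le_rfl) (hkill a₁ ha₁ l (not_lt.mp hl))
    rintro _ ⟨i, hi, rfl⟩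
    exact ⟨⟨i, hi⟩, rfl⟩

theorem isStrictlyStandard_of_elementary (a : A) (ha : Smoothing.IsElementaryStandard R A a) :
    Smoothing.IsStrictlyStandard R A a := by
  obtain ⟨P, ⟨a', ha'⟩, hkill⟩ := ha
  exact ⟨P, ha' ▸ Ideal.mul_mem_left _ _ (Ideal.subset_span ⟨Fin.castLE P.hcn, rfl⟩), hkill⟩

theorem mem_smoothLocus_of_strictly [Algebra.FinitePresentation R A] (a : A)
    (ha : Smoothing.IsStrictlyStandard R A a) (p : PrimeSpectrum A) (hp : a ∉ p.asIdeal) :
    p ∈ Algebra.smoothLocus R A := by
  obtain ⟨b, hb, hbe⟩ := exists_elementary_notMem a ha p.asIdeal hp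
  haveI := isStandardSmooth_of_isElementaryStandard b hbe
  exact Algebra.basicOpen_subset_smoothLocus_iff_smooth.mpr inferInstance hb

theorem smooth_away_of_strictly [Algebra.FinitePresentation R A] (a : A)
    (ha : Smoothing.IsStrictlyStandard R A a) : Algebra.Smooth R (Localization.Away a) :=
  Algebra.basicOpen_subset_smoothLocus_iff_smooth.mp fun p hp => mem_smoothLocus_of_strictly a ha p hp

theorem stablyFree_of_strictly (a : A) (ha : Smoothing.IsStrictlyStandard R A a) :
    ∃ p q : ℕ, Nonempty ((Ω[Localization.Away a⁄R] × (Fin p → Localization.Away a)) ≃ₗ[Localization.Away a]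
      (Fin q → Localization.Away a)) := by
  classical
  obtain ⟨P, hspan, hkill⟩ := ha
  let S := Submonoid.powers a
  let L := Localization.Away a
  let G := Algebra.Generators.ofAlgHom P.hom P.surj
  have hev : (aeval G.val : MvPolynomial (Fin P.n) R →ₐ[R] A) = P.hom := MvPolynomial.algHom_ext fun i => by
    rw [aeval_X]; rfl
  have hGker : G.ker = Ideal.span (Set.range P.rel) := by
    rw [G.ker_eq_ker_aeval_val, hev]; exact P.ker_eq
  let δ : MvPolynomial (Fin P.n) R → G.toExtension.CotangentSpace := fun p =>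
    (1 : A) ⊗ₜ KaehlerDifferential.D R G.toExtension.Ring p
  let f₁ : G.toExtension.CotangentSpace →ₗ[A] LocalizedModule S G.toExtension.CotangentSpace :=
    LocalizedModule.mkLinearMap S G.toExtension.CotangentSpace
  let bL := G.cotangentSpaceBasis.ofIsLocalizedModule L S f₁
  have hδr : ∀ p i, G.cotangentSpaceBasis.repr (δ p) i = P.hom (pderiv i p) := fun p i => by
    refine (G.cotangentSpaceBasis_repr_one_tmul p i).trans ?_
    rw [hev]
  have hcoord : ∀ p i, bL.repr (f₁ (δ p)) i = algebraMap A L (P.hom (pderiv i p)) := fun p i => by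
    rw [Module.Basis.ofIsLocalizedModule_repr_apply]
    refine congrArg _ ?_
    exact hδr p i
  have hδadd : ∀ p p', δ (p + p') = δ p + δ p' := fun p p' => by
    refine G.cotangentSpaceBasis.repr.injective (Finsupp.ext fun i => ?_)
    simp only [hδr, map_add, Finsupp.add_apply]
  have hδ0 : δ 0 = 0 := by
    refine G.cotangentSpaceBasis.repr.injective (Finsupp.ext fun i => ?_)
    simp only [hδr, map_zero, Finsupp.zero_apply]
  have hδmul : ∀ p p', δ (p * p') = P.hom p • δ p' + P.hom p' • δ p := fun p p' => by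
    refine G.cotangentSpaceBasis.repr.injective (Finsupp.ext fun i => ?_)
    simp only [hδr, map_add, map_smul, Finsupp.add_apply, Finsupp.smul_apply, smul_eq_mul, pderiv_mul, map_mul]
    ring
  let ψ : (Fin P.c → L) →ₗ[L] LocalizedModule S G.toExtension.CotangentSpace :=
    Fintype.linearCombination L fun j => f₁ (δ (P.rel (Fin.castLE P.hcm j)))
  have hau : IsUnit (algebraMap A L a) := IsLocalization.Away.algebraMap_isUnit a
  obtain ⟨u, hu⟩ := hau
  obtain ⟨lam, hlam⟩ := (Ideal.mem_span_range_iff_exists_fun).mp hspan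
  let Mx : (Fin P.c → Fin P.n) → Matrix (Fin P.c) (Fin P.c) L := fun cols =>
    Matrix.of fun j k => algebraMap A L (P.hom (pderiv (cols k) (P.rel (Fin.castLE P.hcm j))))
  have hdet : ∀ cols, (Mx cols).det = algebraMap A L (P.hom (Smoothing.jacobianMinor P.rel (Fin.castLE P.hcm) cols)) :=
    fun cols => (((algebraMap A L).comp P.hom.toRingHom).map_det _).symm
  let r₀ : (Fin P.c → Fin P.n) → LocalizedModule S G.toExtension.CotangentSpace →ₗ[L] (Fin P.c → L) := fun cols =>
    (Mx cols).adjugate.vecMulLinear.comp (LinearMap.pi fun k => (Finsupp.lapply (cols k)).comp bL.repr.toLinearMap)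
  have hr₀ : ∀ cols x, r₀ cols (ψ x) = (Mx cols).det • x := fun cols x => by
    have h : (LinearMap.pi fun k => (Finsupp.lapply (cols k)).comp bL.repr.toLinearMap) (ψ x) =
        Matrix.vecMul x (Mx cols) := by
      funext k
      simp only [ψ, LinearMap.pi_apply, LinearMap.comp_apply, LinearEquiv.coe_coe, Finsupp.lapply_apply,
        Fintype.linearCombination_apply, map_sum, map_smul, Finsupp.finsetSum_apply, Finsupp.smul_apply, hcoord,
        smul_eq_mul, Matrix.vecMul, dotProduct, Mx, Matrix.of_apply]
    simp only [r₀, LinearMap.comp_apply]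
    rw [h, Matrix.vecMulLinear_apply, Matrix.vecMul_vecMul, Matrix.mul_adjugate, Matrix.vecMul_smul,
      Matrix.vecMul_one]
  let r : LocalizedModule S G.toExtension.CotangentSpace →ₗ[L] (Fin P.c → L) :=
    ((u⁻¹ : Lˣ) : L) • ∑ cols, algebraMap A L (lam cols) • r₀ cols
  have hr : r.comp ψ = LinearMap.id := by
    refine LinearMap.ext fun x => ?_
    simp only [r, LinearMap.comp_apply, LinearMap.smul_apply, LinearMap.sum_apply, hr₀, LinearMap.id_apply,
      smul_smul, ← Finset.sum_smul, hdet, ← map_mul, ← map_sum, hlam, ← hu, Units.inv_mul, one_smul]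
  let g₁ : LocalizedModule S G.toExtension.CotangentSpace →ₗ[L] LocalizedModule S Ω[A⁄R] :=
    LocalizedModule.map S G.toExtension.toKaehler
  have hg₁ : Function.Surjective g₁ := IsLocalizedModule.map_surjective S
    (LocalizedModule.mkLinearMap S G.toExtension.CotangentSpace) (LocalizedModule.mkLinearMap S Ω[A⁄R]) _
    G.toExtension.toKaehler_surjective
  let d₁ : LocalizedModule S G.toExtension.Cotangent →ₗ[L] LocalizedModule S G.toExtension.CotangentSpace :=
    LocalizedModule.map S G.toExtension.cotangentComplex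
  have hex₁ : Function.Exact d₁ g₁ :=
    LocalizedModule.map_exact S _ _ G.toExtension.exact_cotangentComplex_toKaehler
  have hrel : ∀ l, f₁ (δ (P.rel l)) ∈ LinearMap.range ψ := by
    have hlt : ∀ j : Fin P.c, f₁ (δ (P.rel (Fin.castLE P.hcm j))) ∈ LinearMap.range ψ := fun j =>
      ⟨Pi.single j 1, by simp [ψ, Fintype.linearCombination_apply_single]⟩
    intro l
    by_cases hl : (l : ℕ) < P.c
    · exact hlt ⟨l, hl⟩
    obtain ⟨a₁, ha₁⟩ := P.surj a
    have hsq : ∀ z ∈ Ideal.span (Set.range P.rel) ^ 2, δ z = 0 := by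
      intro z hz
      rw [sq] at hz
      refine Submodule.mul_induction_on hz (fun x hx y hy => ?_) (fun x y hx hy => by rw [hδadd, hx, hy, add_zero])
      rw [← P.ker_eq, RingHom.mem_ker] at hx hy
      rw [hδmul, show P.hom x = 0 from hx, show P.hom y = 0 from hy, zero_smul, zero_smul, add_zero]
    have hlead : ∀ z ∈ Ideal.span (P.rel '' {j : Fin P.m | (j : ℕ) < P.c}), f₁ (δ z) ∈ LinearMap.range ψ := by
      intro z hz
      induction hz using Submodule.span_induction with
      | mem y hy => obtain ⟨j, hj, rfl⟩ := hy; exact hlt ⟨j, hj⟩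
      | zero =>
        rw [hδ0, map_zero]
        exact zero_mem _
      | add y z _ _ hy hz => rw [hδadd, map_add]; exact add_mem hy hz
      | smul b y hy' hy =>
        have h0 : P.hom y = 0 := by
          have : y ∈ Ideal.span (Set.range P.rel) := Ideal.span_mono (Set.image_subset_range _ _) hy'
          rw [← P.ker_eq] at this
          exact this
        rw [smul_eq_mul, hδmul, h0, zero_smul, add_zero, map_smul, ← algebraMap_smul L (P.hom b)]
        exact Submodule.smul_mem _ _ hy
    obtain ⟨y, hy, z, hz, hyz⟩ := Submodule.mem_sup.mp (hkill a₁ ha₁ l (not_lt.mp hl))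
    have h0 : P.hom (P.rel l) = 0 := by
      have : P.rel l ∈ RingHom.ker P.hom.toRingHom := P.ker_eq ▸ Ideal.subset_span ⟨l, rfl⟩
      exact this
    have h := hδmul a₁ (P.rel l)
    rw [← hyz, hδadd, hsq z hz, add_zero, h0, zero_smul, add_zero, ha₁] at h
    have h' := hlead y hy
    rw [h, map_smul, ← algebraMap_smul L a, ← hu] at h'
    have h'' := Submodule.smul_mem _ ((u⁻¹ : Lˣ) : L) h'
    rwa [smul_smul, Units.inv_mul, one_smul] at h''
  have hexψ : Function.Exact ψ g₁ := by
    intro z
    constructor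
    · intro hz
      obtain ⟨x, rfl⟩ := (hex₁ z).mp hz
      induction x using LocalizedModule.induction_on with
      | h w s =>
        obtain ⟨⟨p, hp⟩, rfl⟩ := Algebra.Extension.Cotangent.mk_surjective w
        obtain ⟨v, hv⟩ := IsLocalization.map_units L s
        have hd : d₁ (LocalizedModule.mk (Algebra.Extension.Cotangent.mk ⟨p, hp⟩) s) =
            ((v⁻¹ : Lˣ) : L) • f₁ (δ p) := by
          change LocalizedModule.map S G.toExtension.cotangentComplex _ = _
          rw [LocalizedModule.map_mk, LocalizedModule.mkLinearMap_apply]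
          change LocalizedModule.mk (δ p) s = _
          rw [← one_smul L (LocalizedModule.mk (δ p) s), ← Units.inv_mul v, mul_smul]
          congr 1
          rw [hv, algebraMap_smul, LocalizedModule.smul'_mk, ← Submonoid.smul_def, LocalizedModule.mk_cancel]
        rw [hd]
        refine Submodule.smul_mem (LinearMap.range ψ) _ ?_
        have hp' : p ∈ Ideal.span (Set.range P.rel) := hGker ▸ hp
        suffices hall : ∀ q : MvPolynomial (Fin P.n) R, q ∈ Ideal.span (Set.range P.rel) →
            f₁ (δ q) ∈ LinearMap.range ψ from hall p hp'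
        intro q hq
        clear hd hz hp hp'
        induction hq using Submodule.span_induction with
        | mem y hy => obtain ⟨l, rfl⟩ := hy; exact hrel l
        | zero => rw [hδ0, map_zero]; exact zero_mem _
        | add y z _ _ hy hz =>
          rw [hδadd, map_add]
          exact add_mem hy hz
        | smul b y hy' hy =>
          have h0 : P.hom y = 0 := by
            have hy'' : y ∈ RingHom.ker P.hom.toRingHom := by rw [P.ker_eq]; exact hy'
            exact hy''
          have hδ : δ (b * y) = P.hom b • δ y := by rw [hδmul, h0, zero_smul, add_zero]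
          rw [smul_eq_mul, hδ, map_smul, ← algebraMap_smul L (P.hom b)]
          exact Submodule.smul_mem _ _ hy
    · rintro ⟨x, rfl⟩
      simp only [ψ, Fintype.linearCombination_apply, map_sum, map_smul]
      refine Finset.sum_eq_zero fun j _ => ?_
      have hmem : P.rel (Fin.castLE P.hcm j) ∈ G.ker := hGker ▸ Ideal.subset_span ⟨_, rfl⟩
      have h : f₁ (δ (P.rel (Fin.castLE P.hcm j))) =
          d₁ (LocalizedModule.mk (Algebra.Extension.Cotangent.mk ⟨_, hmem⟩) 1) := by
        change _ = LocalizedModule.map S G.toExtension.cotangentComplex _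
        rw [LocalizedModule.map_mk]
        rfl
      rw [h, hex₁.apply_apply_eq_zero, smul_zero]
  let l : {l : LocalizedModule S G.toExtension.CotangentSpace →ₗ[L] (Fin P.c → L) // l.comp ψ = LinearMap.id} :=
    ⟨r, hr⟩
  obtain ⟨e, -⟩ := (Function.Exact.splitInjectiveEquiv (R := L) (M := Fin P.c → L)
    (N := LocalizedModule S G.toExtension.CotangentSpace) (P := LocalizedModule S Ω[A⁄R]) (f := ψ) (g := g₁) hexψ hg₁) l
  let eΩ : LocalizedModule S Ω[A⁄R] ≃ₗ[L] Ω[L⁄R] :=
    (IsLocalizedModule.iso S (KaehlerDifferential.map R R A L)).extendScalarsOfIsLocalization S L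
  exact ⟨P.c, P.n, ⟨(((LinearEquiv.prodComm L Ω[L⁄R] (Fin P.c → L)).trans
    ((LinearEquiv.refl L (Fin P.c → L)).prodCongr eΩ.symm)).trans e.symm).trans bL.equivFun⟩⟩

end Groth.Agent.StdSmooth
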